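-- CHO (S1082) package [IN-D4] (helper2): the D4 model root elements lie in Omega
-- (each is a commutator of two root elements; integer table facts checked by kernel `decide`).
import Mathlib
import Cfsg.Agent.Lib.Helper99.CHO.Defs

set_option autoImplicit false
open scoped MatrixGroups
open scoped commutatorElement
open Matrix

namespace Cfsg.Agent.Lib.Helper2.CHO

open Cfsg.Agent.Lib.Helper99.CHO

universe u

/-- integer entry `(i, j)` of the root vector `N_r` of type D4. -/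
def nzD4 (r i j : ℕ) : ℤ := tab3 nListD4 r i j

/-- product of two `8 × 8` integer tables given as functions. -/
def mul8 (A B : ℕ → ℕ → ℤ) (i j : ℕ) : ℤ :=
  A i 0 * B 0 j + A i 1 * B 1 j + A i 2 * B 2 j + A i 3 * B 3 j +
  A i 4 * B 4 j + A i 5 * B 5 j + A i 6 * B 6 j + A i 7 * B 7 j

/-- `r ↦ (r1, r2, c)` with `[N_{r1}, N_{r2}] = c N_r`. -/
def tripD4 : List (ℕ × ℕ × ℤ) :=
  [(1,9,1), (0,14,1), (0,15,-1), (0,16,-1), (0,17,1), (1,17,1), (0,19,-1), (0,20,1),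
   (0,21,1), (0,22,-1), (1,20,-1), (1,21,-1), (2,22,-1), (3,22,-1), (1,23,-1), (2,23,1),
   (3,23,1), (4,23,-1), (6,22,1), (6,23,1), (7,23,-1), (8,23,-1), (9,23,1), (14,22,1)]

def r1D4 (r : ℕ) : ℕ := (tripD4.getD r (0,0,0)).1
def r2D4 (r : ℕ) : ℕ := (tripD4.getD r (0,0,0)).2.1
def ccD4 (r : ℕ) : ℤ := (tripD4.getD r (0,0,0)).2.2

/-- the integer facts used for the root index `r`. -/
def chkD4 (r : ℕ) : Bool :=
  decide (r1D4 r < 24) && (decide (r2D4 r < 24) && ((ccD4 r * ccD4 r == 1) &&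
  (List.range 8).all fun i => (List.range 8).all fun j =>
    (mul8 (nzD4 r) (nzD4 r) i j == 0) &&
    ((mul8 (mul8 (nzD4 (r1D4 r)) (nzD4 (r2D4 r))) (nzD4 (r1D4 r)) i j == 0) &&
    ((mul8 (mul8 (nzD4 (r2D4 r)) (nzD4 (r1D4 r))) (nzD4 (r2D4 r)) i j == 0) &&
    (mul8 (nzD4 (r1D4 r)) (nzD4 (r2D4 r)) i j - mul8 (nzD4 (r2D4 r)) (nzD4 (r1D4 r)) i j
      == ccD4 r * nzD4 r i j)))))

set_option maxRecDepth 100000 in
theorem chkD4_all : (List.range 24).all chkD4 = true := by decide +kernel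

theorem chkD4_parts {r : ℕ} (hr : r < 24) :
    r1D4 r < 24 ∧ r2D4 r < 24 ∧ ccD4 r * ccD4 r = 1 ∧ ∀ i < 8, ∀ j < 8,
      mul8 (nzD4 r) (nzD4 r) i j = 0 ∧
      mul8 (mul8 (nzD4 (r1D4 r)) (nzD4 (r2D4 r))) (nzD4 (r1D4 r)) i j = 0 ∧
      mul8 (mul8 (nzD4 (r2D4 r)) (nzD4 (r1D4 r))) (nzD4 (r2D4 r)) i j = 0 ∧
      mul8 (nzD4 (r1D4 r)) (nzD4 (r2D4 r)) i j - mul8 (nzD4 (r2D4 r)) (nzD4 (r1D4 r)) i j
        = ccD4 r * nzD4 r i j := by
  have h : chkD4 r = true := List.all_eq_true.mp chkD4_all r (List.mem_range.mpr hr)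
  unfold chkD4 at h
  simp only [Bool.and_eq_true, decide_eq_true_eq, beq_iff_eq, List.all_eq_true,
    List.mem_range] at h
  exact h

section
variable (K : Type u) [Field K]

/-- the matrix over `K` of an integer table. -/
def castM (A : ℕ → ℕ → ℤ) : Matrix (Fin 4 ⊕ Fin 4) (Fin 4 ⊕ Fin 4) K :=
  Matrix.of fun i j => ((A (ix8 i) (ix8 j) : ℤ) : K)

theorem ix8_lt (i : Fin 4 ⊕ Fin 4) : ix8 i < 8 := by
  rcases i with i | i
  · have := i.isLt; simp only [ix8]; omega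
  · have := i.isLt; simp only [ix8]; omega

theorem ND4_eq_castM (r : ℕ) : ND4 K r = castM K (nzD4 r) := rfl

theorem castM_mul (A B : ℕ → ℕ → ℤ) : castM K A * castM K B = castM K (mul8 A B) := by
  have e0 : ix8 (Sum.inl (0 : Fin 4)) = 0 := rfl
  have e1 : ix8 (Sum.inl (1 : Fin 4)) = 1 := rfl
  have e2 : ix8 (Sum.inl (2 : Fin 4)) = 2 := rfl
  have e3 : ix8 (Sum.inl (3 : Fin 4)) = 3 := rfl
  have e4 : ix8 (Sum.inr (0 : Fin 4)) = 4 := rfl
  have e5 : ix8 (Sum.inr (1 : Fin 4)) = 5 := rfl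
  have e6 : ix8 (Sum.inr (2 : Fin 4)) = 6 := rfl
  have e7 : ix8 (Sum.inr (3 : Fin 4)) = 7 := rfl
  ext i j
  simp only [castM, Matrix.mul_apply, Matrix.of_apply, Fintype.sum_sum_type, Fin.sum_univ_four,
    e0, e1, e2, e3, e4, e5, e6, e7, mul8]
  push_cast
  ring

theorem castM_eq_zero (A : ℕ → ℕ → ℤ) (h : ∀ i < 8, ∀ j < 8, A i j = 0) : castM K A = 0 := by
  ext i j
  simp [castM, h _ (ix8_lt i) _ (ix8_lt j)]

theorem castM_sub_eq (A B C : ℕ → ℕ → ℤ) (c : ℤ)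
    (h : ∀ i < 8, ∀ j < 8, A i j - B i j = c * C i j) :
    castM K A - castM K B = (c : K) • castM K C := by
  ext i j
  simp only [castM, Matrix.sub_apply, Matrix.of_apply, Matrix.smul_apply, smul_eq_mul]
  rw [← Int.cast_sub, h _ (ix8_lt i) _ (ix8_lt j), Int.cast_mul]

theorem ND4_sq {r : ℕ} (hr : r < 24) : ND4 K r * ND4 K r = 0 := by
  obtain ⟨-, -, -, h⟩ := chkD4_parts hr
  rw [ND4_eq_castM, castM_mul]
  exact castM_eq_zero K _ fun i hi j hj => (h i hi j hj).1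

theorem comm_id {R : Type*} [Ring R] (A B : R) (hAA : A * A = 0) (hBB : B * B = 0)
    (hABA : A * B * A = 0) (hBAB : B * A * B = 0) :
    (1 + A) * (1 + B) * (1 - A) * (1 - B) = 1 + (A * B - B * A) := by
  have key : (1 + A) * (1 + B) * (1 - A) * (1 - B) = 1 + (A * B - B * A) +
      (-(A * A) + (A * A) * B - B * B + B * A * B - A * B * A - A * (B * B)
        + (A * B * A) * B) := by noncomm_ring
  rw [key, hAA, hBB, hABA, hBAB]
  simp

theorem ED4mat_neg (r : ℕ) (t : K) : ED4mat K r (-t) = 1 - t • ND4 K r := by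
  unfold ED4mat
  rw [neg_smul, sub_eq_add_neg]

theorem smulN_sq {r : ℕ} (hr : r < 24) (t : K) : (t • ND4 K r) * (t • ND4 K r) = 0 := by
  rw [Matrix.smul_mul, Matrix.mul_smul, ND4_sq K hr, smul_zero, smul_zero]

theorem one_add_mul_one_sub {R : Type*} [Ring R] (X : R) (h : X * X = 0) :
    (1 + X) * (1 - X) = 1 := by
  have key : (1 + X) * (1 - X) = 1 - X * X := by noncomm_ring
  rw [key, h, sub_zero]

theorem ED4mat_mul_neg {r : ℕ} (hr : r < 24) (t : K) : ED4mat K r t * ED4mat K r (-t) = 1 := by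
  rw [ED4mat_neg]
  unfold ED4mat
  exact one_add_mul_one_sub _ (smulN_sq K hr t)

theorem ED4mat_comm {r : ℕ} (hr : r < 24) (t : K) :
    ED4mat K (r1D4 r) 1 * ED4mat K (r2D4 r) ((ccD4 r : K) * t) * ED4mat K (r1D4 r) (-1) *
      ED4mat K (r2D4 r) (-((ccD4 r : K) * t)) = ED4mat K r t := by
  obtain ⟨h1, h2, hc, h⟩ := chkD4_parts hr
  set A := ND4 K (r1D4 r) with hA
  set N2 := ND4 K (r2D4 r) with hN2
  set w : K := (ccD4 r : K) * t with hw
  have hcK : (ccD4 r : K) * (ccD4 r : K) = 1 := by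
    rw [← Int.cast_mul, hc, Int.cast_one]
  have hABA0 : A * N2 * A = 0 := by
    rw [hA, hN2, ND4_eq_castM, ND4_eq_castM, castM_mul, castM_mul]
    exact castM_eq_zero K _ fun i hi j hj => (h i hi j hj).2.1
  have hBAB0 : N2 * A * N2 = 0 := by
    rw [hA, hN2, ND4_eq_castM, ND4_eq_castM, castM_mul, castM_mul]
    exact castM_eq_zero K _ fun i hi j hj => (h i hi j hj).2.2.1
  have hcomm : A * N2 - N2 * A = (ccD4 r : K) • ND4 K r := by
    rw [hA, hN2, ND4_eq_castM, ND4_eq_castM, ND4_eq_castM, castM_mul, castM_mul]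
    exact castM_sub_eq K _ _ _ _ fun i hi j hj => (h i hi j hj).2.2.2
  have e1 : ED4mat K (r1D4 r) 1 = 1 + A := by unfold ED4mat; rw [one_smul]
  have e2 : ED4mat K (r1D4 r) (-1) = 1 - A := by rw [ED4mat_neg, one_smul]
  have e3 : ED4mat K (r2D4 r) w = 1 + w • N2 := rfl
  have e4 : ED4mat K (r2D4 r) (-w) = 1 - w • N2 := ED4mat_neg K _ _
  rw [e1, e2, e3, e4]
  rw [comm_id A (w • N2) (ND4_sq K h1) (smulN_sq K h2 w)
    (by rw [Matrix.mul_smul, Matrix.smul_mul, hABA0, smul_zero])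
    (by rw [Matrix.smul_mul, Matrix.mul_smul, Matrix.smul_mul, hBAB0, smul_zero, smul_zero])]
  rw [Matrix.mul_smul, Matrix.smul_mul, ← smul_sub, hcomm, smul_smul]
  unfold ED4mat
  have : w * (ccD4 r : K) = t := by rw [hw, mul_comm, ← mul_assoc, hcK, one_mul]
  rw [this]

theorem coe_ED4 (hU : PkgUnitD4.{u}) (r : Fin Cfsg.Lie.chevD4.nroots) (t : K) :
    ((ED4 K r t : GL (Fin 4 ⊕ Fin 4) K) : Matrix (Fin 4 ⊕ Fin 4) (Fin 4 ⊕ Fin 4) K) =
      ED4mat K r.val t := by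
  have h : IsUnit (ED4mat K r.val t) := hU K r.val t r.isLt
  unfold ED4
  rw [dif_pos h]
  exact h.unit_spec

theorem ED4_inv (hU : PkgUnitD4.{u}) (r : Fin Cfsg.Lie.chevD4.nroots) (t : K) :
    (ED4 K r t)⁻¹ = ED4 K r (-t) := by
  apply inv_eq_of_mul_eq_one_right
  apply Units.ext
  rw [Units.val_mul, coe_ED4 K hU, coe_ED4 K hU, Units.val_one]
  exact ED4mat_mul_neg K r.isLt t

theorem ED4_mem_iso (hU : PkgUnitD4.{u}) (hI : PkgIsoD4.{u}) (r : Fin Cfsg.Lie.chevD4.nroots)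
    (t : K) : ED4 K r t ∈ Cfsg.isometryGroup K (Cfsg.quadFormPlus 4 K) := by
  intro x y
  show Cfsg.quadFormPlus 4 K
    (((ED4 K r t : GL (Fin 4 ⊕ Fin 4) K) : Matrix (Fin 4 ⊕ Fin 4) (Fin 4 ⊕ Fin 4) K) *ᵥ x) =
      Cfsg.quadFormPlus 4 K x
  rw [coe_ED4 K hU]
  exact hI K r.val t r.isLt x

end

/-- **[IN-D4]** -/
theorem pkgInD4_of (hU : PkgUnitD4.{u}) (hI : PkgIsoD4.{u}) : PkgInD4.{u} := by
  intro K _ r t
  have hr : r.val < 24 := r.isLt
  obtain ⟨h1, h2, -, -⟩ := chkD4_parts hr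
  set a : GL (Fin 4 ⊕ Fin 4) K := ED4 K ⟨r1D4 r.val, h1⟩ 1 with ha
  set b : GL (Fin 4 ⊕ Fin 4) K := ED4 K ⟨r2D4 r.val, h2⟩ ((ccD4 r.val : K) * t) with hb
  have hab : a * b * a⁻¹ * b⁻¹ = ED4 K r t := by
    rw [ha, hb, ED4_inv K hU, ED4_inv K hU]
    apply Units.ext
    rw [Units.val_mul, Units.val_mul, Units.val_mul, coe_ED4 K hU, coe_ED4 K hU, coe_ED4 K hU,
      coe_ED4 K hU, coe_ED4 K hU]
    exact ED4mat_comm K hr t
  have hamem : a ∈ Cfsg.isometryGroup K (Cfsg.quadFormPlus 4 K) := ED4_mem_iso K hU hI _ _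
  have hbmem : b ∈ Cfsg.isometryGroup K (Cfsg.quadFormPlus 4 K) := ED4_mem_iso K hU hI _ _
  unfold Cfsg.Geo.omegaGL
  rw [Subgroup.mem_map]
  let x : ↥(Cfsg.isometryGroup K (Cfsg.quadFormPlus 4 K)) := ⟨a, hamem⟩
  let y : ↥(Cfsg.isometryGroup K (Cfsg.quadFormPlus 4 K)) := ⟨b, hbmem⟩
  refine ⟨⁅x, y⁆, ?_, ?_⟩
  · exact Subgroup.commutator_mem_commutator (Subgroup.mem_top _) (Subgroup.mem_top _)
  · rw [commutatorElement_def]
    exact hab

end Cfsg.Agent.Lib.Helper2.CHO
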